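import Mathlib
import Groth.Agent.H21Root.Farkas

/-!
# Fractional base packing for configurations of vectors

A non-negative weighting of vectors satisfying the rank inequalities is a non-negative combination
of indicator functions of bases.
-/

set_option autoImplicit false

open Finset Module

namespace Groth.Agent.H20GIT

variable {K V : Type*} [Field K] [AddCommGroup V] [Module K V] {ι : Type*} [Fintype ι] [DecidableEq ι]

/-- The rank of a set of indices. -/
noncomputable def rk (x : ι → V) (A : Finset ι) : ℕ := finrank K (Submodule.span K (x '' (A : Set ι)))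

theorem rk_le_card_of_indep (x : ι → V) {S : Finset ι} (hS : LinearIndepOn K x (S : Set ι)) :
    rk (K := K) x S = S.card := by
  have h := finrank_span_eq_card (R := K) (b := fun j : (S : Set ι) => x j) hS
  rw [rk, Set.image_eq_range, h]
  simp

/-- A basis which is maximal on every member of a chain given by an enumeration. -/
theorem exists_greedy (x : ι → V) {M : ℕ} (σ : Fin M ≃ ι) (k : ℕ) :
    ∃ B : Finset ι, (∀ j ∈ B, (σ.symm j : ℕ) < k) ∧ LinearIndepOn K x (B : Set ι) ∧
      ∀ l ≤ k, Submodule.span K (x '' ↑(B.filter fun j => (σ.symm j : ℕ) < l)) =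
        Submodule.span K (x '' ↑(univ.filter fun j => (σ.symm j : ℕ) < l)) := by
  induction k with
  | zero =>
    refine ⟨∅, by simp, by simp, fun l hl => ?_⟩
    rw [Nat.le_zero.mp hl]
    simp
  | succ k ih =>
    obtain ⟨B, hB, hind, hsp⟩ := ih
    by_cases hk : k < M
    swap
    · refine ⟨B, fun j hj => (hB j hj).trans k.lt_succ_self, hind, fun l hl => ?_⟩
      rcases Nat.lt_or_ge k l with h | h
      · have := hsp k le_rfl
        have h1 : ∀ j : ι, ((σ.symm j : ℕ) < l ↔ (σ.symm j : ℕ) < k) := fun j => by
          have := (σ.symm j).2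
          omega
        rw [filter_congr fun j _ => h1 j, filter_congr fun j _ => h1 j]
        exact this
      · exact hsp l h
    let a := σ ⟨k, hk⟩
    have ha : (σ.symm a : ℕ) = k := by simp [a]
    have huniv : (univ.filter fun j => (σ.symm j : ℕ) < k + 1) =
        insert a (univ.filter fun j => (σ.symm j : ℕ) < k) := by
      ext j
      simp only [mem_filter, mem_univ, true_and, mem_insert]
      refine ⟨fun h => ?_, ?_⟩
      · rcases Nat.lt_succ_iff_lt_or_eq.mp h with h | h
        · exact .inr h
        · exact .inl (σ.symm.injective (Fin.ext (h.trans ha.symm)))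
      · rintro (rfl | h) <;> omega
    have hBfilt : B.filter (fun j => (σ.symm j : ℕ) < k) = B := filter_true_of_mem hB
    have hspk := hsp k le_rfl
    rw [hBfilt] at hspk
    by_cases hmem : x a ∈ Submodule.span K (x '' (B : Set ι))
    · refine ⟨B, fun j hj => (hB j hj).trans k.lt_succ_self, hind, fun l hl => ?_⟩
      rcases Nat.lt_or_ge k l with h | h
      · obtain rfl : l = k + 1 := by omega
        rw [filter_true_of_mem fun j hj => (hB j hj).trans k.lt_succ_self, huniv, coe_insert,
          Set.image_insert_eq, Submodule.span_insert_eq_span (by rwa [← hspk]), hspk]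
      · exact hsp l h
    · refine ⟨insert a B, ?_, ?_, fun l hl => ?_⟩
      · intro j hj
        rcases mem_insert.mp hj with rfl | hj
        · omega
        · exact (hB j hj).trans k.lt_succ_self
      · rw [coe_insert]
        exact hind.insert hmem
      rcases Nat.lt_or_ge k l with h | h
      · obtain rfl : l = k + 1 := by omega
        rw [filter_insert, if_pos (by omega), filter_true_of_mem fun j hj => (hB j hj).trans k.lt_succ_self,
          huniv, coe_insert, coe_insert, Set.image_insert_eq, Set.image_insert_eq, Submodule.span_insert,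
          Submodule.span_insert, hspk]
      · rw [filter_insert, if_neg (by omega)]
        exact hsp l h

/-- The linear functional attached to a set of indices. -/
def indF (B : Finset ι) : Dual ℚ (ι → ℚ) := ∑ j ∈ B, LinearMap.proj j

theorem indF_apply (B : Finset ι) (c : ι → ℚ) : indF B c = ∑ j ∈ B, c j := by simp [indF]

/-- The linear functional attached to a weighting. -/
def wF (w : ι → ℚ) : Dual ℚ (ι → ℚ) := ∑ j, w j • LinearMap.proj j

theorem wF_apply (w c : ι → ℚ) : wF w c = ∑ j, w j * c j := by simp [wF]

open scoped Classical in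
/-- **Fractional base packing.** -/
theorem exists_packing (x : ι → V) (w : ι → ℚ) (q : ℚ) (hq : 0 ≤ q)
    (hA : ∀ A : Finset ι, ∑ j ∈ A, w j ≤ q * rk (K := K) x A)
    (htot : ∑ j, w j = q * rk (K := K) x univ) :
    ∃ c : Finset ι → ℚ, (∀ B, 0 ≤ c B) ∧
      (∀ B, c B ≠ 0 → B.card = rk (K := K) x univ ∧ LinearIndepOn K x (B : Set ι)) ∧
      ∀ j, ∑ B ∈ univ.filter (j ∈ ·), c B = w j := by
  let s : Finset (Finset ι) := univ.filter fun B => B.card = rk (K := K) x univ ∧ LinearIndepOn K x (B : Set ι)
  obtain ⟨c, hc, hg⟩ := H21Root.farkas s indF (wF w) fun c hc => by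
    let e := (Fintype.equivFin ι).symm
    let σ : Fin (Fintype.card ι) ≃ ι := (Tuple.sort (c ∘ e)).trans e
    have hmono : Monotone (c ∘ σ) := Tuple.monotone_sort (c ∘ e)
    obtain ⟨B, -, hind, hsp⟩ := exists_greedy (K := K) x σ (Fintype.card ι)
    have hr : ∀ l ≤ Fintype.card ι, rk (K := K) x (univ.filter fun j => (σ.symm j : ℕ) < l) =
        (B.filter fun j => (σ.symm j : ℕ) < l).card := by
      intro l hl
      rw [rk, ← hsp l hl]
      exact rk_le_card_of_indep x (hind.mono (by exact_mod_cast filter_subset _ B))
    have key : ∀ k ≤ Fintype.card ι, ∀ t : ℚ, (∀ j, (σ.symm j : ℕ) < k → c j ≤ t) →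
        ∑ j ∈ univ.filter (fun j => (σ.symm j : ℕ) < k), w j * (t - c j) ≤
          q * ∑ j ∈ B.filter (fun j => (σ.symm j : ℕ) < k), (t - c j) := by
      intro k
      induction k with
      | zero => intro _ t _; simp
      | succ k ih =>
        intro hk t ht
        let a := σ ⟨k, hk⟩
        have ha : (σ.symm a : ℕ) = k := by simp [a]
        have hca : ∀ j, (σ.symm j : ℕ) < k + 1 → c j ≤ c a := fun j hj => by
          have := hmono (show σ.symm j ≤ ⟨k, hk⟩ from Nat.lt_succ_iff.mp hj)
          simpa [a] using this
        have h1 := ih (by omega) (c a) fun j hj => hca j (by omega)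
        have h2 := hA (univ.filter fun j => (σ.symm j : ℕ) < k + 1)
        rw [hr (k + 1) hk] at h2
        have h3 : ∀ C : Finset ι, ∀ f : ι → ℚ, (∀ j, (σ.symm j : ℕ) = k → f j = 0) →
            ∑ j ∈ C.filter (fun j => (σ.symm j : ℕ) < k + 1), f j =
              ∑ j ∈ C.filter (fun j => (σ.symm j : ℕ) < k), f j := by
          intro C f hf
          symm
          refine sum_subset (fun j hj => ?_) fun j hj hj' => hf j ?_
          · simp only [mem_filter] at hj ⊢
            exact ⟨hj.1, by omega⟩
          · simp only [mem_filter, not_and, not_lt] at hj hj'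
            have := hj' hj.1
            omega
        have h0 : ∀ j, (σ.symm j : ℕ) = k → c a - c j = 0 := fun j hj => by
          rw [show j = a from σ.symm.injective (Fin.ext (hj.trans ha.symm)), sub_self]
        rw [← h3 univ (fun j => w j * (c a - c j)) (fun j hj => by simp [h0 j hj]),
          ← h3 B (fun j => c a - c j) h0] at h1
        have e1 : ∀ j, w j * (t - c j) = w j * (c a - c j) + w j * (t - c a) := fun j => by ring
        have e2 : ∀ j, (t - c j) = (c a - c j) + 1 * (t - c a) := fun j => by ring
        simp only [sum_congr rfl fun j _ => e1 j, sum_congr rfl fun j _ => e2 j, sum_add_distrib, ← sum_mul]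
        rw [sum_const, nsmul_one, mul_add, ← _root_.mul_assoc]
        have h4 : (∑ j ∈ univ.filter (fun j => (σ.symm j : ℕ) < k + 1), w j) * (t - c a) ≤
            q * ((B.filter fun j => (σ.symm j : ℕ) < k + 1).card : ℚ) * (t - c a) :=
          mul_le_mul_of_nonneg_right h2 (sub_nonneg.mpr (ht a (by omega)))
        linarith
    obtain ⟨t, ht⟩ : ∃ t, ∀ j, c j ≤ t :=
      ⟨∑ j, |c j|, fun j => (le_abs_self _).trans (single_le_sum (fun i _ => abs_nonneg (c i)) (mem_univ j))⟩
    have h5 := key _ le_rfl t fun j _ => ht j
    rw [filter_true_of_mem (fun j _ => (σ.symm j).2), filter_true_of_mem (fun j _ => (σ.symm j).2)] at h5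
    have hcard : B.card = rk (K := K) x univ := by
      have := hr (Fintype.card ι) le_rfl
      rwa [filter_true_of_mem (fun j _ => (σ.symm j).2), filter_true_of_mem (fun j _ => (σ.symm j).2),
        eq_comm] at this
    have h6 := hc B (mem_filter.mpr ⟨mem_univ _, hcard, hind⟩)
    rw [indF_apply] at h6
    rw [wF_apply]
    simp only [mul_sub, sum_sub_distrib, sum_const, nsmul_eq_mul, ← sum_mul, htot, hcard] at h5
    nlinarith [mul_nonneg hq h6]
  refine ⟨fun B => if B ∈ s then c B else 0, fun B => ?_, fun B hB => ?_, fun j => ?_⟩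
  · dsimp only
    split_ifs with h
    exacts [hc B h, le_rfl]
  · by_contra h
    refine hB ?_
    show (if B ∈ s then c B else 0) = 0
    rw [if_neg]
    exact fun hs => h (mem_filter.mp hs).2
  · have h := LinearMap.congr_fun hg (Pi.single j 1)
    simp only [wF_apply, LinearMap.coe_sum, Finset.sum_apply, LinearMap.smul_apply, indF_apply,
      sum_pi_single, smul_eq_mul, mul_ite, Pi.single_apply, mul_one, mul_zero, sum_ite_eq', mem_univ,
      if_true] at h
    rw [h, ← sum_filter, ← sum_filter]
    exact sum_congr (by ext B; simp [and_comm]) fun _ _ => rfl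

end Groth.Agent.H20GIT
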