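import Groth.Agent.H24Def.GlobalFibre
import Groth.Agent.H25Rig.Rigidity

/-!
# Maps collapsing a fibre, infinitesimally and near the fibre

If `p : X ⟶ S` is flat and `κ(s) = H⁰(X_s)`, a morphism collapsing `X_s` to a point factors through
every infinitesimal neighbourhood of `s`. Two morphisms out of a locally Noetherian scheme agreeing
on all infinitesimal neighbourhoods of a fibre agree near it.
-/

set_option autoImplicit false
set_option linter.style.haveILetI false
set_option backward.isDefEq.respectTransparency false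

universe u

open CategoryTheory CategoryTheory.Limits AlgebraicGeometry TopologicalSpace IsLocalRing

namespace Groth.Agent.H20GIT

variable {S X Y : Scheme.{u}}

/-- The coordinate ring of the `n`-th infinitesimal neighbourhood of `s`. -/
abbrev NbhdRing (s : S) (n : ℕ) := S.presheaf.stalk s ⧸ maximalIdeal (S.presheaf.stalk s) ^ (n + 1)

/-- The `n`-th infinitesimal neighbourhood of `s`. -/
noncomputable abbrev nbhd (s : S) (n : ℕ) : Spec (CommRingCat.of (NbhdRing s n)) ⟶ S :=
  Spec.map (CommRingCat.ofHom (Ideal.Quotient.mk (maximalIdeal (S.presheaf.stalk s) ^ (n + 1)))) ≫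
    S.fromSpecStalk s

instance isLocalRing_nbhdRing (s : S) (n : ℕ) : IsLocalRing (NbhdRing s n) := by
  haveI : Nontrivial (NbhdRing s n) := Ideal.Quotient.nontrivial_iff.mpr fun h => (maximalIdeal.isMaximal
    (S.presheaf.stalk s)).ne_top (top_le_iff.1 (h.ge.trans (Ideal.pow_le_self n.succ_ne_zero)))
  exact IsLocalRing.of_surjective' _ Ideal.Quotient.mk_surjective

instance isArtinianRing_nbhdRing [IsLocallyNoetherian S] (s : S) (n : ℕ) :
    IsArtinianRing (NbhdRing s n) := by
  refine (isArtinianRing_iff_isNilpotent_maximalIdeal _).mpr ⟨n + 1, ?_⟩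
  rw [← IsLocalRing.map_maximalIdeal_of_surjective _
    (Ideal.Quotient.mk_surjective (I := maximalIdeal (S.presheaf.stalk s) ^ (n + 1))), ← Ideal.map_pow,
    Ideal.map_quotient_self]
  rfl

theorem comap_mk_eq_closedPoint (s : S) (n : ℕ) (z : PrimeSpectrum (NbhdRing s n)) :
    PrimeSpectrum.comap (Ideal.Quotient.mk (maximalIdeal (S.presheaf.stalk s) ^ (n + 1))) z =
      closedPoint (S.presheaf.stalk s) := by
  refine PrimeSpectrum.ext ((maximalIdeal.isMaximal _).eq_of_le ?_ ?_).symm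
  · exact Ideal.IsPrime.ne_top (PrimeSpectrum.isPrime _)
  · intro a ha
    refine Ideal.IsPrime.mem_of_pow_mem (I := z.asIdeal.comap _) inferInstance (n + 1) ?_
    rw [Ideal.mem_comap, Ideal.Quotient.eq_zero_iff_mem.mpr (Ideal.pow_mem_pow ha _)]
    exact zero_mem _

theorem nbhd_apply (s : S) (n : ℕ) (z : Spec (CommRingCat.of (NbhdRing s n))) : nbhd s n z = s :=
  (congrArg (S.fromSpecStalk s) (comap_mk_eq_closedPoint s n z)).trans Scheme.fromSpecStalk_closedPoint

theorem bijective_appTop_snd_comp {T T' : Scheme.{u}} (p : X ⟶ S) (j : T' ⟶ T) [IsIso j] (h : T ⟶ S)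
    (hb : Function.Bijective (pullback.snd p h).appTop) :
    Function.Bijective (pullback.snd p (j ≫ h)).appTop := by
  haveI := (ConcreteCategory.isIso_iff_bijective _).mpr hb
  haveI : IsIso (pullback.snd (pullback.snd p h) j ≫ j).appTop := by
    rw [← pullback.condition, Scheme.Hom.comp_appTop]; infer_instance
  rw [Scheme.Hom.comp_appTop] at this
  haveI := IsIso.of_isIso_comp_left j.appTop (pullback.snd (pullback.snd p h) j).appTop
  rw [← (pullbackLeftPullbackSndIso p h j).inv_hom_id_assoc (pullback.snd p (j ≫ h)),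
    pullbackLeftPullbackSndIso_hom_snd, Scheme.Hom.comp_appTop]
  exact ConcreteCategory.bijective_of_isIso _

theorem bijective_scalar_of_appTop {C : Type u} [CommRing C] {Z : Scheme.{u}}
    (g : Z ⟶ Spec (CommRingCat.of C)) (hb : Function.Bijective g.appTop) :
    Function.Bijective (H24Def.scalar g ⊤) := by
  show Function.Bijective ((Scheme.ΓSpecIso (CommRingCat.of C)).inv ≫ g.appLE ⊤ (g ⁻¹ᵁ ⊤) le_rfl)
  rw [← Scheme.Hom.app_eq_appLE]
  exact hb.comp (ConcreteCategory.bijective_of_isIso (Scheme.ΓSpecIso (CommRingCat.of C)).inv)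

theorem isIso_appTop_of_bijective_scalar {C : Type u} [CommRing C] {Z : Scheme.{u}}
    (g : Z ⟶ Spec (CommRingCat.of C)) (hb : Function.Bijective (H24Def.scalar g ⊤)) :
    IsIso g.appTop := by
  have h : IsIso ((Scheme.ΓSpecIso (CommRingCat.of C)).inv ≫ g.appLE ⊤ (g ⁻¹ᵁ ⊤) le_rfl) :=
    (ConcreteCategory.isIso_iff_bijective _).mpr hb
  rw [← Scheme.Hom.app_eq_appLE] at h
  exact IsIso.of_isIso_comp_left (Scheme.ΓSpecIso (CommRingCat.of C)).inv _

/-- A morphism collapsing the fibre over `s` factors through the infinitesimal neighbourhoods of `s`. -/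
theorem exists_factor_nbhd [IsLocallyNoetherian S] (p : X ⟶ S) [Flat p] (s : S)
    (h0 : Function.Bijective (pullback.snd p (S.fromSpecResidueField s)).appTop)
    (f : X ⟶ Y) (y : Y) (hy : ∀ x, p x = s → f x = y) (n : ℕ) :
    ∃ u, pullback.fst p (nbhd s n) ≫ f = pullback.snd p (nbhd s n) ≫ u := by
  let g := pullback.snd p (nbhd s n)
  let m := maximalIdeal (NbhdRing s n)
  let ψ : S.presheaf.stalk s →+* NbhdRing s n ⧸ m := (Ideal.Quotient.mk m).comp (Ideal.Quotient.mk _)
  have hψ : Function.Surjective ψ := Ideal.Quotient.mk_surjective.comp Ideal.Quotient.mk_surjective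
  have hker : ∀ a ∈ maximalIdeal (S.presheaf.stalk s), ψ a = 0 := fun a ha =>
    Ideal.Quotient.eq_zero_iff_mem.mpr <| (IsLocalRing.mem_maximalIdeal _).mpr <| IsNilpotent.not_isUnit ⟨n + 1, by
      rw [← map_pow, Ideal.Quotient.eq_zero_iff_mem]; exact Ideal.pow_mem_pow ha _⟩
  let φ : S.residueField s →+* NbhdRing s n ⧸ m := Ideal.Quotient.lift _ ψ hker
  haveI : IsIso (CommRingCat.ofHom φ) := (ConcreteCategory.isIso_iff_bijective _).mpr
    ⟨RingHom.injective φ, fun c => by obtain ⟨a, rfl⟩ := hψ c; exact ⟨Ideal.Quotient.mk _ a, rfl⟩⟩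
  have hγ : Spec.map (CommRingCat.ofHom φ) ≫ S.fromSpecResidueField s =
      Spec.map (CommRingCat.ofHom (Ideal.Quotient.mk m)) ≫ nbhd s n := by
    rw [Scheme.fromSpecResidueField, nbhd, ← Category.assoc, ← Category.assoc, ← Spec.map_comp,
      ← Spec.map_comp]
    rfl
  have hb := bijective_appTop_snd_comp p (Spec.map (CommRingCat.ofHom φ)) _ h0
  rw [hγ] at hb
  have hb' : Function.Bijective
      (pullback.snd g (Spec.map (CommRingCat.ofHom (Ideal.Quotient.mk m)))).appTop := by
    haveI := (ConcreteCategory.isIso_iff_bijective _).mpr hb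
    rw [← pullbackLeftPullbackSndIso_hom_snd p (nbhd s n), Scheme.Hom.comp_appTop]
    exact ConcreteCategory.bijective_of_isIso _
  have hs : Function.Bijective (H24Def.scalar g ⊤) := by
    refine H24Def.bijective_scalar _ _ (IsPullback.of_hasPullback g
      (Spec.map (CommRingCat.ofHom (Ideal.Quotient.mk m)))) ?_
    exact bijective_scalar_of_appTop _ hb'
  haveI : IsIso g.appTop := isIso_appTop_of_bijective_scalar g hs
  obtain ⟨V, hV, hyV, -⟩ := exists_isAffineOpen_mem_and_subset (X := Y) (x := y) (U := ⊤) trivial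
  haveI : IsAffine V.toScheme := hV
  have hr : Set.range (pullback.fst p (nbhd s n) ≫ f) ⊆ Set.range V.ι := by
    rintro _ ⟨z, rfl⟩
    refine V.range_ι.ge ?_
    show f (pullback.fst p (nbhd s n) z) ∈ V
    rw [hy _ (by rw [← Scheme.Hom.comp_apply, pullback.condition, Scheme.Hom.comp_apply, nbhd_apply])]
    exact hyV
  obtain ⟨u, hu⟩ := H25Rig.exists_factor_of_isIso_appTop g (IsOpenImmersion.lift V.ι _ hr)
  exact ⟨u ≫ V.ι, by rw [← Category.assoc, hu, IsOpenImmersion.lift_fac]⟩

/-- Morphisms agreeing on the infinitesimal neighbourhoods of a fibre agree near it. -/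
theorem exists_open_agree [IsLocallyNoetherian X] (ρ : X ⟶ S) (a b : X ⟶ Y) (x : X)
    (h : ∀ n, pullback.fst ρ (nbhd (ρ x) n) ≫ a = pullback.fst ρ (nbhd (ρ x) n) ≫ b) :
    ∃ U : X.Opens, x ∈ U ∧ U.ι ≫ a = U.ι ≫ b := by
  refine spread_out_unique_of_isGermInjective' a b ?_
  let O := X.presheaf.stalk x
  let J : Ideal O := (maximalIdeal (S.presheaf.stalk (ρ x))).map (ρ.stalkMap x).hom
  have hJ : J ≤ maximalIdeal O := by
    refine Ideal.map_le_iff_le_comap.mpr fun r hr => ?_
    exact map_nonunit (ρ.stalkMap x).hom r hr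
  let D : ℕ → Ideal O := fun n => J ^ (n + 1)
  let π : ∀ n, X.presheaf.stalk x ⟶ CommRingCat.of (O ⧸ D n) := fun n => CommRingCat.ofHom (Ideal.Quotient.mk (D n))
  have hd : ∀ n, Spec.map (π n) ≫ X.fromSpecStalk x ≫ a = Spec.map (π n) ≫ X.fromSpecStalk x ≫ b := by
    intro n
    let χ : NbhdRing (ρ x) n →+* O ⧸ D n := Ideal.Quotient.lift _ ((Ideal.Quotient.mk (D n)).comp (ρ.stalkMap x).hom)
      fun r hr => Ideal.Quotient.eq_zero_iff_mem.mpr (by
        show _ ∈ J ^ (n + 1)
        rw [← Ideal.map_pow]; exact Ideal.mem_map_of_mem _ hr)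
    have hw : (Spec.map (π n) ≫ X.fromSpecStalk x) ≫ ρ = Spec.map (CommRingCat.ofHom χ) ≫ nbhd (ρ x) n := by
      rw [Category.assoc, ← Scheme.SpecMap_stalkMap_fromSpecStalk, nbhd, ← Category.assoc,
        ← Category.assoc (Spec.map (CommRingCat.ofHom χ)), ← Spec.map_comp, ← Spec.map_comp]
      rfl
    have := congrArg (pullback.lift (Spec.map (π n) ≫ X.fromSpecStalk x) (Spec.map (CommRingCat.ofHom χ)) hw ≫ ·) (h n)
    simpa only [pullback.lift_fst_assoc, Category.assoc] using this
  have hcl : ∀ c : X ⟶ Y, (X.fromSpecStalk x ≫ c) (closedPoint O) = c x := fun c => by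
    rw [Scheme.Hom.comp_apply, Scheme.fromSpecStalk_closedPoint]
  have hab : a x = b x := by
    haveI : Nontrivial (O ⧸ D 0) := Ideal.Quotient.nontrivial_iff.mpr fun h' =>
      (maximalIdeal.isMaximal O).ne_top (top_le_iff.1 (h'.ge.trans ((Ideal.pow_le_self one_ne_zero).trans hJ)))
    haveI : IsLocalRing (O ⧸ D 0) := IsLocalRing.of_surjective' _ Ideal.Quotient.mk_surjective
    have e1 : Spec.map (π 0) (closedPoint (O ⧸ D 0)) = closedPoint O := by
      haveI : IsLocalHom (Ideal.Quotient.mk (D 0)) := IsLocalHom.of_surjective _ Ideal.Quotient.mk_surjective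
      exact IsLocalRing.comap_closedPoint _
    have h0 := congrArg (fun m => m (closedPoint (O ⧸ D 0))) (hd 0)
    simp only [Scheme.Hom.comp_apply] at h0
    rwa [e1, Scheme.fromSpecStalk_closedPoint] at h0
  obtain ⟨V, hV, hxV, -⟩ := exists_isAffineOpen_mem_and_subset (X := Y) (x := a x) (U := ⊤) trivial
  haveI : IsAffine V.toScheme := hV
  have hmem : ∀ (c : X ⟶ Y), c x = a x → Set.range (X.fromSpecStalk x ≫ c) ⊆ Set.range V.ι := by
    rintro c hc _ ⟨z, rfl⟩
    refine V.range_ι.ge ?_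
    have hz : z ⤳ closedPoint O := IsLocalRing.specializes_closedPoint z
    have := hz.map (X.fromSpecStalk x ≫ c).continuous
    rw [hcl, hc] at this
    exact this.mem_open V.2 hxV
  obtain ⟨χa, hχa⟩ : ∃ χ : Γ(V.toScheme, ⊤) ⟶ X.presheaf.stalk x, Spec.map χ =
      IsOpenImmersion.lift V.ι _ (hmem a rfl) ≫ V.toScheme.isoSpec.hom := ⟨_, Spec.map_preimage _⟩
  obtain ⟨χb, hχb⟩ : ∃ χ : Γ(V.toScheme, ⊤) ⟶ X.presheaf.stalk x, Spec.map χ =
      IsOpenImmersion.lift V.ι _ (hmem b hab.symm) ≫ V.toScheme.isoSpec.hom := ⟨_, Spec.map_preimage _⟩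
  have hn : ∀ n, χa ≫ π n = χb ≫ π n := fun n => by
    apply Spec.map_injective
    rw [Spec.map_comp, Spec.map_comp, hχa, hχb, ← cancel_mono V.toScheme.isoSpec.inv, ← cancel_mono V.ι]
    simp only [Category.assoc, Iso.hom_inv_id_assoc, IsOpenImmersion.lift_fac]
    exact hd n
  have hχ : χa = χb := by
    ext c
    rw [← sub_eq_zero]
    have hmemJ : χa c - χb c ∈ ⨅ n : ℕ, J ^ n := by
      refine Ideal.mem_iInf.mpr fun n => Ideal.pow_le_pow_right n.le_succ ?_
      exact Ideal.Quotient.eq.mp (ConcreteCategory.congr_hom (hn n) c)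
    rwa [Ideal.iInf_pow_eq_bot_of_isLocalRing J
      (fun h' => (maximalIdeal.isMaximal O).ne_top (top_le_iff.1 (h'.ge.trans hJ))), Ideal.mem_bot] at hmemJ
  have : Spec.map χa = Spec.map χb := by rw [hχ]
  rw [hχa, hχb, cancel_mono] at this
  calc X.fromSpecStalk x ≫ a = IsOpenImmersion.lift V.ι _ (hmem a rfl) ≫ V.ι := (IsOpenImmersion.lift_fac _ _ _).symm
    _ = IsOpenImmersion.lift V.ι _ (hmem b hab.symm) ≫ V.ι := by rw [this]
    _ = X.fromSpecStalk x ≫ b := IsOpenImmersion.lift_fac _ _ _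

end Groth.Agent.H20GIT
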