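import Groth.Agent.H20GIT.RigidLocal
import Groth.Agent.H28Top.Noeth

/-!
# Mumford's rigidity lemma over a connected locally Noetherian base

A morphism out of a flat scheme over `S` with only constant functions on the fibres, proper or closed
with a section, which collapses one fibre to a point comes from a section of the target.
-/

set_option autoImplicit false
set_option linter.style.haveILetI false
set_option backward.isDefEq.respectTransparency false

universe u

open CategoryTheory CategoryTheory.Limits AlgebraicGeometry TopologicalSpace Topology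

namespace Groth.Agent.H20GIT

variable {S X Y : Scheme.{u}}

theorem isClosed_of_isOpen_stable [IsLocallyNoetherian S] {W : Set S} (hW : IsOpen W)
    (hs : StableUnderSpecialization W) : IsClosed W := by
  refine isClosed_of_closure_subset fun y hy => ?_
  obtain ⟨V, hV, hyV, -⟩ := exists_isAffineOpen_mem_and_subset (X := S) (x := y) (U := ⊤) trivial
  haveI : IsNoetherianRing Γ(S, V) := IsLocallyNoetherian.component_noetherian ⟨V, hV⟩
  haveI : NoetherianSpace V.toScheme := noetherianSpace_of_isAffineOpen V hV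
  let E : Set V.toScheme := V.ι ⁻¹' W
  have hE : IsOpen E := hW.preimage V.ι.continuous
  have hEc : IsClosed E := H28Top.isClosed_of_stableUnderSpecialization
    (IsRetrocompact.isConstructible hE (fun _ _ _ => NoetherianSpace.isCompact _))
    fun a b hab ha => hs (hab.map V.ι.continuous) ha
  obtain ⟨z, rfl⟩ : y ∈ Set.range V.ι := V.range_ι.ge hyV
  have hz : z ∈ closure E := by
    rw [show E = V.ι ⁻¹' W from rfl, ← V.ι.isOpenEmbedding.isOpenMap.preimage_closure_eq_closure_preimage
      V.ι.continuous]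
    exact hy
  rw [hEc.closure_eq] at hz
  exact hz

/-- Two morphisms over `S`, agreeing on all infinitesimal neighbourhoods of the fibres satisfying `Col`,
agree if `Col` holds somewhere and holds wherever they agree pointwise on the fibre. -/
theorem eq_of_collapse [IsLocallyNoetherian S] [ConnectedSpace S] [IsLocallyNoetherian X] (ρ : X ⟶ S)
    [Flat ρ] (hρ : IsClosedMap ρ) (q : Y ⟶ S) [IsSeparated q] (a b : X ⟶ Y) (ha : a ≫ q = ρ)
    (hb : b ≫ q = ρ) (Col : S → Prop)
    (hcol : ∀ s, Col s → ∀ n, pullback.fst ρ (nbhd s n) ≫ a = pullback.fst ρ (nbhd s n) ≫ b)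
    (hspec : ∀ s, (∀ x, ρ x = s → a x = b x) → Col s) (s : S) (hs : Col s) : a = b := by
  let k : pullback (pullback.lift a b (ha.trans hb.symm)) (pullback.diagonal q) ⟶ X := pullback.fst _ _
  haveI : IsClosedImmersion k := MorphismProperty.pullback_fst (P := @IsClosedImmersion) _ _ inferInstance
  have hk : k ≫ a = k ≫ b := by
    have hc : k ≫ pullback.lift a b (ha.trans hb.symm) = pullback.snd _ _ ≫ pullback.diagonal q := pullback.condition
    have h1 := congrArg (· ≫ pullback.fst q q) hc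
    have h2 := congrArg (· ≫ pullback.snd q q) hc
    simp only [Category.assoc, pullback.lift_fst, pullback.lift_snd, pullback.diagonal_fst,
      pullback.diagonal_snd, Category.comp_id] at h1 h2
    exact h1.trans h2.symm
  let W : Set S := {t | ∃ V : S.Opens, t ∈ V ∧ (ρ ⁻¹ᵁ V).ι ≫ a = (ρ ⁻¹ᵁ V).ι ≫ b}
  have hW : IsOpen W := isOpen_iff_forall_mem_open.mpr fun t ⟨V, ht, hV⟩ =>
    ⟨V, fun t' ht' => ⟨V, ht', hV⟩, V.2, ht⟩
  have hcolW : ∀ t, Col t → t ∈ W := by
    intro t ht
    let 𝒜 : Set X.Opens := {U | U.ι ≫ a = U.ι ≫ b}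
    let U₀ : X.Opens := ⨆ U : 𝒜, U.1
    have hU₀ : ∀ x, ρ x = t → x ∈ U₀ := by
      intro x hx
      subst hx
      obtain ⟨U, hxU, hU⟩ := exists_open_agree ρ a b x (hcol _ ht)
      exact Opens.mem_iSup.mpr ⟨⟨U, hU⟩, hxU⟩
    have hU₀' : U₀.ι ≫ a = U₀.ι ≫ b := by
      refine (U₀.toScheme.openCoverOfIsOpenCover (fun U : 𝒜 => U₀.ι ⁻¹ᵁ U.1) ?_).hom_ext _ _ fun U => ?_
      · refine top_le_iff.1 fun z _ => ?_
        obtain ⟨U, hU⟩ := Opens.mem_iSup.1 (show U₀.ι z ∈ U₀ from U₀.range_ι.le ⟨z, rfl⟩)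
        exact Opens.mem_iSup.2 ⟨U, hU⟩
      · show (U₀.ι ⁻¹ᵁ U.1).ι ≫ U₀.ι ≫ a = (U₀.ι ⁻¹ᵁ U.1).ι ≫ U₀.ι ≫ b
        rw [← morphismRestrict_ι_assoc, ← morphismRestrict_ι_assoc, U.2]
    let V : S.Opens := ⟨(ρ '' (U₀ : Set X)ᶜ)ᶜ, (hρ _ U₀.isOpen.isClosed_compl).isOpen_compl⟩
    have hle : ρ ⁻¹ᵁ V ≤ U₀ := fun x hx => by
      by_contra h
      exact hx ⟨x, h, rfl⟩
    refine ⟨V, ?_, ?_⟩
    · rintro ⟨x, hx, rfl⟩
      exact hx (hU₀ x rfl)
    · rw [← X.homOfLE_ι hle, Category.assoc, Category.assoc, hU₀']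
  have hstab : StableUnderSpecialization W := by
    rintro η t hηt ⟨V, hηV, hV⟩
    refine hcolW t (hspec t fun x hx => ?_)
    obtain ⟨y, hyx, hy⟩ := (Flat.generalizingMap (f := ρ)) (show η ⤳ ρ x from hx ▸ hηt)
    have hyk : y ∈ Set.range k := by
      let l : (ρ ⁻¹ᵁ V).toScheme ⟶ pullback (pullback.lift a b (ha.trans hb.symm)) (pullback.diagonal q) :=
        pullback.lift (ρ ⁻¹ᵁ V).ι ((ρ ⁻¹ᵁ V).ι ≫ a) (by
          apply pullback.hom_ext
          · simp only [Category.assoc, pullback.lift_fst, pullback.diagonal_fst, Category.comp_id]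
          · simp only [Category.assoc, pullback.lift_snd, pullback.diagonal_snd, Category.comp_id]
            exact hV.symm)
      obtain ⟨w, hw⟩ := (ρ ⁻¹ᵁ V).range_ι.ge (show y ∈ ρ ⁻¹ᵁ V by show ρ y ∈ V; rw [hy]; exact hηV)
      exact ⟨l w, by rw [← Scheme.Hom.comp_apply, pullback.lift_fst]; exact hw⟩
    obtain ⟨w, rfl⟩ := hyx.mem_closed k.isClosedEmbedding.isClosed_range hyk
    rw [← Scheme.Hom.comp_apply, hk, Scheme.Hom.comp_apply]
  have huniv : W = Set.univ := by
    rcases isClopen_iff.mp ⟨isClosed_of_isOpen_stable hW hstab, hW⟩ with h | h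
    · exact absurd (hcolW s hs) (by rw [h]; exact fun h => h)
    · exact h
  have hW' : ∀ t : S, t ∈ W := fun t => huniv ▸ trivial
  choose V htV hV using hW'
  refine (X.openCoverOfIsOpenCover (fun t => ρ ⁻¹ᵁ V t) ?_).hom_ext _ _ fun t => hV t
  exact top_le_iff.1 fun x _ => Opens.mem_iSup.2 ⟨ρ x, htV _⟩

theorem surjective_of_h0 (p : X ⟶ S)
    (h0 : ∀ s : S, Function.Bijective (pullback.snd p (S.fromSpecResidueField s)).appTop) : Surjective p := by
  refine ⟨fun s => ?_⟩
  by_contra h
  haveI : IsEmpty ↥(pullback p (S.fromSpecResidueField s)) := ⟨fun z => h ⟨pullback.fst p _ z, by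
    rw [← Scheme.Hom.comp_apply, pullback.condition, Scheme.Hom.comp_apply,
      Scheme.fromSpecResidueField_apply]⟩⟩
  haveI : Subsingleton Γ(pullback p (S.fromSpecResidueField s), ⊤) := by
    infer_instance
  haveI := (h0 s).1.subsingleton
  haveI : Nontrivial Γ(Spec (S.residueField s), ⊤) :=
    (Scheme.ΓSpecIso (S.residueField s)).commRingCatIsoToRingEquiv.toEquiv.nontrivial
  exact not_subsingleton Γ(Spec (S.residueField s), ⊤) inferInstance

/-- **Rigidity lemma**: if `f` collapses one fibre, it comes from a section of `q`. -/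
theorem exists_section_of_collapse [IsLocallyNoetherian S] [ConnectedSpace S] [IsLocallyNoetherian X]
    (p : X ⟶ S) (q : Y ⟶ S) (f : X ⟶ Y) (hf : f ≫ q = p) [Flat p] [IsSeparated q]
    (h0 : ∀ s : S, Function.Bijective (pullback.snd p (S.fromSpecResidueField s)).appTop)
    (hp : IsProper p ∨ (IsClosedMap p ∧ ∃ e : S ⟶ X, e ≫ p = 𝟙 S))
    (s : S) (hs : ∀ x x' : X, p x = s → p x' = s → f x = f x') :
    ∃ t : S ⟶ Y, t ≫ q = 𝟙 S ∧ f = p ≫ t := by
  haveI := surjective_of_h0 p h0
  let Col : S → Prop := fun t => ∀ x x' : X, p x = t → p x' = t → f x = f x'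
  have hu : ∀ t, Col t → ∀ n, ∃ u, pullback.fst p (nbhd t n) ≫ f = pullback.snd p (nbhd t n) ≫ u := by
    intro t ht n
    obtain ⟨x₀, hx₀⟩ := p.surjective t
    exact exists_factor_nbhd p t (h0 t) f (f x₀) (fun x hx => ht x x₀ hx hx₀) n
  rcases hp with hp | ⟨hcl, e, he⟩
  · haveI : LocallyOfFiniteType p := inferInstance
    haveI : IsLocallyNoetherian (pullback p p) := LocallyOfFiniteType.isLocallyNoetherian (pullback.fst p p)
    haveI : Flat (pullback.fst p p ≫ p) := inferInstance
    haveI : IsProper (pullback.fst p p ≫ p) := inferInstance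
    have key : pullback.fst p p ≫ f = pullback.snd p p ≫ f := by
      refine eq_of_collapse (pullback.fst p p ≫ p) (Scheme.Hom.isClosedMap _) q _ _
        (by rw [Category.assoc, hf]) (by rw [Category.assoc, hf, pullback.condition]) Col
        (fun t ht n => ?_) (fun t ht x x' hx hx' => ?_) s hs
      · obtain ⟨u, hu⟩ := hu t ht n
        set ρ := pullback.fst p p ≫ p with hρ
        have h1 := congrArg (pullback.lift (pullback.fst ρ (nbhd t n) ≫ pullback.fst p p) (pullback.snd ρ (nbhd t n))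
          (by rw [Category.assoc, ← hρ, pullback.condition]) ≫ ·) hu
        have h2 := congrArg (pullback.lift (pullback.fst ρ (nbhd t n) ≫ pullback.snd p p) (pullback.snd ρ (nbhd t n))
          (by rw [Category.assoc, ← pullback.condition (f := p) (g := p), ← hρ, pullback.condition]) ≫ ·) hu
        simp only [pullback.lift_fst_assoc, pullback.lift_snd_assoc, Category.assoc] at h1 h2
        exact h1.trans h2.symm
      · obtain ⟨z, hz1, hz2⟩ := Scheme.Pullback.exists_preimage_pullback (f := p) (g := p) x x' (hx.trans hx'.symm)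
        have := ht z (by rw [Scheme.Hom.comp_apply, hz1, hx])
        rwa [Scheme.Hom.comp_apply, Scheme.Hom.comp_apply, hz1, hz2] at this
    haveI : LocallyOfFinitePresentation p := inferInstance
    have hdesc : ∀ {T : Scheme.{u}} (g₁ g₂ : T ⟶ X), g₁ ≫ p = g₂ ≫ p → g₁ ≫ f = g₂ ≫ f := by
      intro T g₁ g₂ hg
      rw [← pullback.lift_fst (f := p) (g := p) g₁ g₂ hg, Category.assoc, key, pullback.lift_snd_assoc]
    refine ⟨EffectiveEpi.desc p f hdesc, ?_, (EffectiveEpi.fac p f hdesc).symm⟩
    rw [← cancel_epi p, ← Category.assoc, EffectiveEpi.fac, hf, Category.comp_id]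
  · refine ⟨e ≫ f, by rw [Category.assoc, hf, he], ?_⟩
    refine eq_of_collapse p hcl q f (p ≫ e ≫ f) hf (by rw [Category.assoc, Category.assoc, hf, he,
      Category.comp_id]) Col (fun t ht n => ?_) (fun t ht x x' hx hx' => ?_) s hs
    · obtain ⟨u, hu⟩ := hu t ht n
      have h1 := congrArg (pullback.lift (nbhd t n ≫ e) (𝟙 _)
        (by rw [Category.assoc, he, Category.comp_id, Category.id_comp]) ≫ ·) hu
      simp only [pullback.lift_fst_assoc, pullback.lift_snd_assoc, Category.assoc, Category.id_comp] at h1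
      rw [hu, pullback.condition_assoc, ← h1]
      simp only [nbhd, Category.assoc]
    · rw [ht x hx, ht x' hx']
      simp only [Scheme.Hom.comp_apply, hx, hx']

end Groth.Agent.H20GIT
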