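import Mathlib
import Groth.Prelude.Def_GLinSh
import Groth.Agent.H20GQ.Orbit
import Groth.Agent.H19Grp.Transporter

/-!
# The stabiliser of the universal point as a group scheme

For an action of `G` on `X` over `S`, the stabiliser of `𝟙 X` is a group scheme over `X`, and the
stabiliser of a `T`-point `f` is its base change along `f`.
-/

set_option autoImplicit false
set_option linter.style.haveILetI false
set_option backward.isDefEq.respectTransparency false

universe u

open CategoryTheory CategoryTheory.Limits MonoidalCategory CartesianMonoidalCategory MonObj AlgebraicGeometry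

namespace Groth.Agent.H20GIT

variable {S : Scheme.{u}} {G X : Over S} [GrpObj G] (a : AlgGrp.Action G X)

theorem act_one {T : Over S} (x : T ⟶ X) : lift (1 : T ⟶ G) x ≫ a.act = x := by
  have h1 : lift (1 : T ⟶ G) x = lift (toUnit T) x ≫ (η[G] ▷ X) := by
    rw [lift_whiskerRight, Hom.one_def]
  rw [h1, Category.assoc, a.one_act, leftUnitor_hom, lift_snd]

theorem act_mul {T : Over S} (g h : T ⟶ G) (x : T ⟶ X) :
    lift (g * h) x ≫ a.act = lift g (lift h x ≫ a.act) ≫ a.act := by
  have h1 : lift (g * h) x = lift (lift g h) x ≫ (μ[G] ▷ X) := by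
    rw [lift_whiskerRight, Hom.mul_def]
  rw [h1, Category.assoc, a.mul_act]
  simp

/-- The stabiliser of the universal point, as a scheme over `X`. -/
noncomputable abbrev stabOver : Over X.left := Over.mk (GLinSh.stabTo a (𝟙 X))

theorem psi_snd {T : Over S} (f : T ⟶ X) : GIT.psi a f ≫ snd X T = snd G T := lift_snd _ _

theorem fst_snd_eq {T : Over S} (f : T ⟶ X) :
    pullback.fst (GIT.psi a f).left (lift f (𝟙 T)).left ≫ (snd G T).left = GLinSh.stabTo a f := by
  rw [← psi_snd a f, Over.comp_left, pullback.condition_assoc, ← Over.comp_left, lift_snd]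
  exact Category.comp_id _

/-- The inclusion of the stabiliser in `G × X`. -/
noncomputable def stabIncl : stabOver a ⟶ (Over.pullback X.hom).obj G :=
  Over.homMk (pullback.fst (GIT.psi a (𝟙 X)).left (lift (𝟙 X) (𝟙 X)).left) (fst_snd_eq a (𝟙 X))

instance mono_stabIncl : Mono (stabIncl a) := by
  haveI : Mono (lift (𝟙 X) (𝟙 X)).left := by
    refine SplitMono.mono ⟨(fst X X).left, ?_⟩
    rw [← Over.comp_left, lift_fst, Over.id_left]
  haveI : Mono (stabIncl a).left := by
    show Mono (pullback.fst (GIT.psi a (𝟙 X)).left (lift (𝟙 X) (𝟙 X)).left)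
    infer_instance
  exact Over.mono_of_mono_left _

theorem exists_factor_iff {T : Over X.left} (h : (Over.map X.hom).obj T ⟶ G) :
    (∃ z, z ≫ stabIncl a = (Over.mapPullbackAdj X.hom).homEquiv T G h) ↔
      lift h (Over.homMk T.hom rfl) ≫ a.act = Over.homMk T.hom rfl := by
  set xT : (Over.map X.hom).obj T ⟶ X := Over.homMk T.hom rfl with hxT
  have hg : ((Over.mapPullbackAdj X.hom).homEquiv T G h).left = (lift h xT).left := by
    apply pullback.hom_ext
    · refine Eq.trans ?_ (congrArg CommaMorphism.left (lift_fst h xT)).symm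
      simp [Over.mapPullbackAdj]
    · refine Eq.trans ?_ (congrArg CommaMorphism.left (lift_snd h xT)).symm
      simp [Over.mapPullbackAdj, hxT]
  have key : (lift h xT ≫ GIT.psi a (𝟙 X) = xT ≫ lift (𝟙 X) (𝟙 X)) ↔ lift h xT ≫ a.act = xT := by
    constructor
    · intro e
      have := congrArg (· ≫ fst X X) e
      simpa [GIT.psi] using this
    · intro e
      apply CartesianMonoidalCategory.hom_ext
      · simpa [GIT.psi] using e
      · simp [GIT.psi]
  rw [← key]
  constructor
  · rintro ⟨z, hz⟩
    apply Over.OverMorphism.ext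
    have h1 : z.left ≫ pullback.fst _ _ = (lift h xT).left := (congrArg CommaMorphism.left hz).trans hg
    have h2 := Over.w z
    rw [Over.comp_left, Over.comp_left, ← h1, Category.assoc]
    show z.left ≫ pullback.fst _ _ ≫ (GIT.psi a (𝟙 X)).left = T.hom ≫ _
    rw [pullback.condition, ← Category.assoc]
    exact congrArg (· ≫ (lift (𝟙 X) (𝟙 X)).left) h2
  · intro e
    have e' : (lift h xT).left ≫ (GIT.psi a (𝟙 X)).left = T.hom ≫ (lift (𝟙 X) (𝟙 X)).left := by
      rw [← Over.comp_left, e, Over.comp_left]; rfl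
    refine ⟨Over.homMk (pullback.lift (lift h xT).left T.hom e') (pullback.lift_snd _ _ _), ?_⟩
    apply Over.OverMorphism.ext
    rw [hg, Over.comp_left]
    exact pullback.lift_fst _ _ _

/-- The transposition of points is multiplicative. -/
theorem homEquiv_mul {T : Over X.left} (g h : (Over.map X.hom).obj T ⟶ G) :
    letI : GrpObj ((Over.pullback X.hom).obj G) := Functor.grpObjObj
    (Over.mapPullbackAdj X.hom).homEquiv T G (g * h) =
      (Over.mapPullbackAdj X.hom).homEquiv T G g * (Over.mapPullbackAdj X.hom).homEquiv T G h := by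
  letI : GrpObj ((Over.pullback X.hom).obj G) := Functor.grpObjObj
  simp only [Adjunction.homEquiv_unit]
  rw [← MonObj.comp_mul]
  exact congrArg _ ((Over.pullback X.hom).homMonoidHom.map_mul g h)

/-- The stabiliser is a subgroup of `G × X` over `X`. -/
theorem exists_grpObj_stabOver : ∃ _ : GrpObj (stabOver a),
    letI : GrpObj ((Over.pullback X.hom).obj G) := Functor.grpObjObj
    IsMonHom (stabIncl a) := by
  letI : GrpObj ((Over.pullback X.hom).obj G) := Functor.grpObjObj
  let e := fun T => (Over.mapPullbackAdj X.hom).homEquiv T G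
  let φ : ∀ T : Over X.left, ((Over.map X.hom).obj T ⟶ G) →* (T ⟶ (Over.pullback X.hom).obj G) :=
    fun T => MonoidHom.mk' (e T) (homEquiv_mul (T := T))
  refine H19Grp.exists_grpObj_of_closed (stabIncl a) ?_ (fun T x y => ?_) (fun T x => ?_)
  · obtain ⟨z, hz⟩ := (exists_factor_iff a (T := 𝟙_ (Over X.left)) 1).2 (act_one a _)
    exact ⟨z, hz.trans (map_one (φ _))⟩
  · obtain ⟨g, hg⟩ := (e T).surjective (x ≫ stabIncl a)
    obtain ⟨h, hh⟩ := (e T).surjective (y ≫ stabIncl a)
    have h1 := (exists_factor_iff a g).1 ⟨x, hg.symm⟩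
    have h2 := (exists_factor_iff a h).1 ⟨y, hh.symm⟩
    obtain ⟨z, hz⟩ := (exists_factor_iff a (g * h)).2 (by rw [act_mul, h2, h1])
    exact ⟨z, by rw [hz, ← hg, ← hh]; exact map_mul (φ T) g h⟩
  · obtain ⟨g, hg⟩ := (e T).surjective (x ≫ stabIncl a)
    have h1 := (exists_factor_iff a g).1 ⟨x, hg.symm⟩
    obtain ⟨z, hz⟩ := (exists_factor_iff a g⁻¹).2 (by
      conv_lhs => rw [← h1, ← act_mul, inv_mul_cancel, act_one])
    exact ⟨z, by rw [hz, ← hg]; exact map_inv (φ T) g⟩

/-- The stabiliser of a point is the base change of the universal stabiliser. -/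
theorem exists_isPullback_stab {T : Over S} (f : T ⟶ X) :
    ∃ m : GLinSh.stab a f ⟶ GLinSh.stab a (𝟙 X),
      IsPullback m (GLinSh.stabTo a f) (GLinSh.stabTo a (𝟙 X)) f.left := by
  have hpsi : GIT.psi a f ≫ (X ◁ f) = (G ◁ f) ≫ GIT.psi a (𝟙 X) := by
    apply CartesianMonoidalCategory.hom_ext <;> simp [GIT.psi]
  have hB : IsPullback f.left (lift f (𝟙 T)).left (lift (𝟙 X) (𝟙 X)).left (X ◁ f).left := by
    suffices h0 : IsPullback f (lift f (𝟙 T)) (lift (𝟙 X) (𝟙 X)) (X ◁ f) from h0.map (Over.forget S)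
    refine ⟨⟨by apply CartesianMonoidalCategory.hom_ext <;> simp⟩, ⟨PullbackCone.IsLimit.mk _
      (fun s => s.snd ≫ snd X T) (fun s => ?_) (fun s => ?_) (fun s m hm hm' => ?_)⟩⟩
    · have h1 := congrArg (· ≫ snd X X) s.condition
      simp at h1
      simpa using h1.symm
    · apply CartesianMonoidalCategory.hom_ext
      · have h0 := congrArg (· ≫ fst X X) s.condition
        have h1 := congrArg (· ≫ snd X X) s.condition
        simp at h0 h1
        simpa using h1.symm.trans h0
      · simp
    · simp [← hm']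
  have big : IsPullback (pullback.fst (GIT.psi a f).left (lift f (𝟙 T)).left) (GLinSh.stabTo a f ≫ f.left)
      ((GIT.psi a f).left ≫ (X ◁ f).left) (lift (𝟙 X) (𝟙 X)).left :=
    (IsPullback.of_hasPullback _ _).paste_vert hB.flip
  rw [← Over.comp_left, hpsi, Over.comp_left] at big
  let m : GLinSh.stab a f ⟶ GLinSh.stab a (𝟙 X) :=
    pullback.lift (pullback.fst (GIT.psi a f).left (lift f (𝟙 T)).left ≫ (G ◁ f).left) (GLinSh.stabTo a f ≫ f.left)
      (by rw [Category.assoc]; exact big.w)
  have hm2 : m ≫ GLinSh.stabTo a (𝟙 X) = GLinSh.stabTo a f ≫ f.left := pullback.lift_snd _ _ _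
  have top : IsPullback (pullback.fst (GIT.psi a f).left (lift f (𝟙 T)).left) m (G ◁ f).left
      (pullback.fst (GIT.psi a (𝟙 X)).left (lift (𝟙 X) (𝟙 X)).left) := by
    refine IsPullback.of_bot ?_ (pullback.lift_fst _ _ _).symm (IsPullback.of_hasPullback _ _)
    exact hm2.symm ▸ big
  have h3 := top.flip.paste_vert (H20GQ.isPullback_whiskerLeft f G).flip
  rw [fst_snd_eq, fst_snd_eq] at h3
  exact ⟨m, h3⟩

end Groth.Agent.H20GIT
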